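import Cfsg.Agent.H863.U33.Words

/-! # S5525, part F: kernel checks (helper863) -/

set_option autoImplicit false
set_option Elab.async false

namespace Cfsg.Agent.H863.U33

open Cfsg.Agent.BabyM.Conc Cfsg.Agent.BabyM.Inst Cfsg.Agent.BabyM.TransInv Cfsg.Agent.H819.U33 Cfsg.Agent.BM.StageW
open Cfsg.Agent.Monster.VecEngine Cfsg.Agent.BabyM.WordsInst

theorem c_ef_00 : chk (we 0 ++ cj wr (we 0)) (cj wr (we 0) ++ we 0) = true := by decide +kernel

theorem c_ef_01 : chk (we 0 ++ cj wr (we 1)) (cj wr (we 1) ++ we 0) = true := by decide +kernel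

theorem c_ef_02 : chk (we 0 ++ cj wr (we 2)) (cj wr (we 2) ++ we 0) = true := by decide +kernel

theorem c_ef_03 : chk (we 0 ++ cj wr (we 3)) (cj wr (we 3) ++ we 0) = true := by decide +kernel

theorem c_ef_11 : chk (we 1 ++ cj wr (we 1)) (cj wr (we 1) ++ we 1) = true := by decide +kernel

theorem c_ef_12 : chk (we 1 ++ cj wr (we 2)) (cj wr (we 2) ++ we 1) = true := by decide +kernel

theorem c_ef_13 : chk (we 1 ++ cj wr (we 3)) (cj wr (we 3) ++ we 1) = true := by decide +kernel

theorem c_ef_22 : chk (we 2 ++ cj wr (we 2)) (cj wr (we 2) ++ we 2) = true := by decide +kernel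

theorem c_ef_23 : chk (we 2 ++ cj wr (we 3)) (cj wr (we 3) ++ we 2) = true := by decide +kernel

theorem c_ef_33 : chk (we 3 ++ cj wr (we 3)) (cj wr (we 3) ++ we 3) = true := by decide +kernel

end Cfsg.Agent.H863.U33
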