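import Cfsg.Agent.H863.U33.Words

/-! # S5525, part F: kernel checks (helper863) -/

set_option autoImplicit false
set_option Elab.async false

namespace Cfsg.Agent.H863.U33

open Cfsg.Agent.BabyM.Conc Cfsg.Agent.BabyM.Inst Cfsg.Agent.BabyM.TransInv Cfsg.Agent.H819.U33 Cfsg.Agent.BM.StageW
open Cfsg.Agent.Monster.VecEngine Cfsg.Agent.BabyM.WordsInst

theorem c_t_0 : chk (we 0 ++ wt) (wt ++ nfw (Mt 0) (Ct 0)) = true := by decide +kernel

theorem c_t_1 : chk (we 1 ++ wt) (wt ++ nfw (Mt 1) (Ct 1)) = true := by decide +kernel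

theorem c_t_2 : chk (we 2 ++ wt) (wt ++ nfw (Mt 2) (Ct 2)) = true := by decide +kernel

theorem c_t_3 : chk (we 3 ++ wt) (wt ++ nfw (Mt 3) (Ct 3)) = true := by decide +kernel

theorem c_t_4 : chk (we 4 ++ wt) (wt ++ nfw (Mt 4) (Ct 4)) = true := by decide +kernel

theorem c_t_5 : chk (we 5 ++ wt) (wt ++ nfw (Mt 5) (Ct 5)) = true := by decide +kernel

theorem c_t_6 : chk (we 6 ++ wt) (wt ++ nfw (Mt 6) (Ct 6)) = true := by decide +kernel

theorem c_t_7 : chk (we 7 ++ wt) (wt ++ nfw (Mt 7) (Ct 7)) = true := by decide +kernel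

end Cfsg.Agent.H863.U33
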