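import Cfsg.Agent.H863.U33.Words

/-! # S5525, part F: kernel checks (helper863) -/

set_option autoImplicit false
set_option Elab.async false

namespace Cfsg.Agent.H863.U33

open Cfsg.Agent.BabyM.Conc Cfsg.Agent.BabyM.Inst Cfsg.Agent.BabyM.TransInv Cfsg.Agent.H819.U33 Cfsg.Agent.BM.StageW
open Cfsg.Agent.Monster.VecEngine Cfsg.Agent.BabyM.WordsInst

theorem c_w2_0 : chk (we 0 ++ ww2) (ww2 ++ nfw (Mw2 0) (Cw2 0)) = true := by decide +kernel

theorem c_w2_1 : chk (we 1 ++ ww2) (ww2 ++ nfw (Mw2 1) (Cw2 1)) = true := by decide +kernel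

theorem c_w2_2 : chk (we 2 ++ ww2) (ww2 ++ nfw (Mw2 2) (Cw2 2)) = true := by decide +kernel

theorem c_w2_3 : chk (we 3 ++ ww2) (ww2 ++ nfw (Mw2 3) (Cw2 3)) = true := by decide +kernel

theorem c_w2_4 : chk (we 4 ++ ww2) (ww2 ++ nfw (Mw2 4) (Cw2 4)) = true := by decide +kernel

theorem c_w2_5 : chk (we 5 ++ ww2) (ww2 ++ nfw (Mw2 5) (Cw2 5)) = true := by decide +kernel

theorem c_w2_6 : chk (we 6 ++ ww2) (ww2 ++ nfw (Mw2 6) (Cw2 6)) = true := by decide +kernel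

theorem c_w2_7 : chk (we 7 ++ ww2) (ww2 ++ nfw (Mw2 7) (Cw2 7)) = true := by decide +kernel

end Cfsg.Agent.H863.U33
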