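import Cfsg.Agent.H863.U33.Words

/-! # S5525, part F: kernel checks (helper863) -/

set_option autoImplicit false
set_option Elab.async false

namespace Cfsg.Agent.H863.U33

open Cfsg.Agent.BabyM.Conc Cfsg.Agent.BabyM.Inst Cfsg.Agent.BabyM.TransInv Cfsg.Agent.H819.U33 Cfsg.Agent.BM.StageW
open Cfsg.Agent.Monster.VecEngine Cfsg.Agent.BabyM.WordsInst

theorem c_w5_0 : chk (we 0 ++ ww5) (ww5 ++ nfw (Mw5 0) (Cw5 0)) = true := by decide +kernel

theorem c_w5_1 : chk (we 1 ++ ww5) (ww5 ++ nfw (Mw5 1) (Cw5 1)) = true := by decide +kernel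

theorem c_w5_2 : chk (we 2 ++ ww5) (ww5 ++ nfw (Mw5 2) (Cw5 2)) = true := by decide +kernel

theorem c_w5_3 : chk (we 3 ++ ww5) (ww5 ++ nfw (Mw5 3) (Cw5 3)) = true := by decide +kernel

theorem c_w5_4 : chk (we 4 ++ ww5) (ww5 ++ nfw (Mw5 4) (Cw5 4)) = true := by decide +kernel

theorem c_w5_5 : chk (we 5 ++ ww5) (ww5 ++ nfw (Mw5 5) (Cw5 5)) = true := by decide +kernel

theorem c_w5_6 : chk (we 6 ++ ww5) (ww5 ++ nfw (Mw5 6) (Cw5 6)) = true := by decide +kernel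

theorem c_w5_7 : chk (we 7 ++ ww5) (ww5 ++ nfw (Mw5 7) (Cw5 7)) = true := by decide +kernel

end Cfsg.Agent.H863.U33
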