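import Cfsg.Agent.H863.U33.Words

/-! # S5525, part F: kernel checks (helper863) -/

set_option autoImplicit false
set_option Elab.async false

namespace Cfsg.Agent.H863.U33

open Cfsg.Agent.BabyM.Conc Cfsg.Agent.BabyM.Inst Cfsg.Agent.BabyM.TransInv Cfsg.Agent.H819.U33 Cfsg.Agent.BM.StageW
open Cfsg.Agent.Monster.VecEngine Cfsg.Agent.BabyM.WordsInst

theorem c_k0_0 : chk (we 0 ++ wk0) (wk0 ++ nfw (Mk0 0) (Ck0 0)) = true := by decide +kernel

theorem c_k0_1 : chk (we 1 ++ wk0) (wk0 ++ nfw (Mk0 1) (Ck0 1)) = true := by decide +kernel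

theorem c_k0_2 : chk (we 2 ++ wk0) (wk0 ++ nfw (Mk0 2) (Ck0 2)) = true := by decide +kernel

theorem c_k0_3 : chk (we 3 ++ wk0) (wk0 ++ nfw (Mk0 3) (Ck0 3)) = true := by decide +kernel

theorem c_k0_4 : chk (we 4 ++ wk0) (wk0 ++ nfw (Mk0 4) (Ck0 4)) = true := by decide +kernel

theorem c_k0_5 : chk (we 5 ++ wk0) (wk0 ++ nfw (Mk0 5) (Ck0 5)) = true := by decide +kernel

theorem c_k0_6 : chk (we 6 ++ wk0) (wk0 ++ nfw (Mk0 6) (Ck0 6)) = true := by decide +kernel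

theorem c_k0_7 : chk (we 7 ++ wk0) (wk0 ++ nfw (Mk0 7) (Ck0 7)) = true := by decide +kernel

end Cfsg.Agent.H863.U33
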