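import Cfsg.Agent.H863.U33.Words

/-! # S5525, part F: kernel checks (helper863) -/

set_option autoImplicit false
set_option Elab.async false

namespace Cfsg.Agent.H863.U33

open Cfsg.Agent.BabyM.Conc Cfsg.Agent.BabyM.Inst Cfsg.Agent.BabyM.TransInv Cfsg.Agent.H819.U33 Cfsg.Agent.BM.StageW
open Cfsg.Agent.Monster.VecEngine Cfsg.Agent.BabyM.WordsInst

theorem c_n_0 : chk (we 0 ++ wn) (wn ++ nfw (Mn 0) (Cn 0)) = true := by decide +kernel

theorem c_n_1 : chk (we 1 ++ wn) (wn ++ nfw (Mn 1) (Cn 1)) = true := by decide +kernel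

theorem c_n_2 : chk (we 2 ++ wn) (wn ++ nfw (Mn 2) (Cn 2)) = true := by decide +kernel

theorem c_n_3 : chk (we 3 ++ wn) (wn ++ nfw (Mn 3) (Cn 3)) = true := by decide +kernel

theorem c_n_4 : chk (we 4 ++ wn) (wn ++ nfw (Mn 4) (Cn 4)) = true := by decide +kernel

theorem c_n_5 : chk (we 5 ++ wn) (wn ++ nfw (Mn 5) (Cn 5)) = true := by decide +kernel

theorem c_n_6 : chk (we 6 ++ wn) (wn ++ nfw (Mn 6) (Cn 6)) = true := by decide +kernel

theorem c_n_7 : chk (we 7 ++ wn) (wn ++ nfw (Mn 7) (Cn 7)) = true := by decide +kernel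

end Cfsg.Agent.H863.U33
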