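import Cfsg.Agent.H863.U33.Words

/-! # S5525, part F: kernel checks (helper863) -/

set_option autoImplicit false
set_option Elab.async false

namespace Cfsg.Agent.H863.U33

open Cfsg.Agent.BabyM.Conc Cfsg.Agent.BabyM.Inst Cfsg.Agent.BabyM.TransInv Cfsg.Agent.H819.U33 Cfsg.Agent.BM.StageW
open Cfsg.Agent.Monster.VecEngine Cfsg.Agent.BabyM.WordsInst

theorem c_kw_00 : chk (ww 0 ++ wk 0) (wk 0 ++ wnfw (Kw 0 0) (Ke 0 0)) = true := by decide +kernel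

theorem c_kw_01 : chk (ww 1 ++ wk 0) (wk 0 ++ wnfw (Kw 0 1) (Ke 0 1)) = true := by decide +kernel

theorem c_kw_02 : chk (ww 2 ++ wk 0) (wk 0 ++ wnfw (Kw 0 2) (Ke 0 2)) = true := by decide +kernel

theorem c_kw_03 : chk (ww 3 ++ wk 0) (wk 0 ++ wnfw (Kw 0 3) (Ke 0 3)) = true := by decide +kernel

theorem c_kw_04 : chk (ww 4 ++ wk 0) (wk 0 ++ wnfw (Kw 0 4) (Ke 0 4)) = true := by decide +kernel

theorem c_kw_05 : chk (ww 5 ++ wk 0) (wk 0 ++ wnfw (Kw 0 5) (Ke 0 5)) = true := by decide +kernel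

theorem c_kw_10 : chk (ww 0 ++ wk 1) (wk 1 ++ wnfw (Kw 1 0) (Ke 1 0)) = true := by decide +kernel

theorem c_kw_11 : chk (ww 1 ++ wk 1) (wk 1 ++ wnfw (Kw 1 1) (Ke 1 1)) = true := by decide +kernel

theorem c_kw_12 : chk (ww 2 ++ wk 1) (wk 1 ++ wnfw (Kw 1 2) (Ke 1 2)) = true := by decide +kernel

theorem c_kw_13 : chk (ww 3 ++ wk 1) (wk 1 ++ wnfw (Kw 1 3) (Ke 1 3)) = true := by decide +kernel

theorem c_kw_14 : chk (ww 4 ++ wk 1) (wk 1 ++ wnfw (Kw 1 4) (Ke 1 4)) = true := by decide +kernel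

theorem c_kw_15 : chk (ww 5 ++ wk 1) (wk 1 ++ wnfw (Kw 1 5) (Ke 1 5)) = true := by decide +kernel

theorem c_nw_0 : chk (ww 0 ++ wn) (wn ++ wnfw (Nw 0) (Ne 0)) = true := by decide +kernel

theorem c_nw_1 : chk (ww 1 ++ wn) (wn ++ wnfw (Nw 1) (Ne 1)) = true := by decide +kernel

theorem c_nw_2 : chk (ww 2 ++ wn) (wn ++ wnfw (Nw 2) (Ne 2)) = true := by decide +kernel

theorem c_nw_3 : chk (ww 3 ++ wn) (wn ++ wnfw (Nw 3) (Ne 3)) = true := by decide +kernel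

theorem c_nw_4 : chk (ww 4 ++ wn) (wn ++ wnfw (Nw 4) (Ne 4)) = true := by decide +kernel

theorem c_nw_5 : chk (ww 5 ++ wn) (wn ++ wnfw (Nw 5) (Ne 5)) = true := by decide +kernel

theorem c_w9 : chk (w9 ++ w9 ++ w9) wy1 = true := by decide +kernel

end Cfsg.Agent.H863.U33
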