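import Cfsg.Agent.H863.U33.ChkP
import Cfsg.Agent.H863.U33.ChkQ
import Cfsg.Agent.H863.U33.ChkS0
import Cfsg.Agent.H863.U33.ChkS1
import Cfsg.Agent.H863.U33.ChkS2
import Cfsg.Agent.H863.U33.ChkS3
import Cfsg.Agent.H863.U33.ChkS4
import Cfsg.Agent.H863.U33.ChkS5
import Cfsg.Agent.H863.U33.ChkS6
import Cfsg.Agent.H863.U33.ChkS7
import Cfsg.Agent.H863.U33.ChkS8
import Cfsg.Agent.H863.U33.ChkS9
import Cfsg.Agent.H863.U33.ChkV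
import Cfsg.Agent.H863.U33.ChkW

/-! # S5525, part F: all kernel checks (helper863) -/

set_option autoImplicit false

namespace Cfsg.Agent.H863.U33

open Cfsg.Agent.BabyM.Conc Cfsg.Agent.BabyM.Inst Cfsg.Agent.BabyM.TransInv Cfsg.Agent.H819.U33 Cfsg.Agent.BM.StageW

theorem c_t : ∀ j : Fin 8, chk (we j ++ wt) (wt ++ nfw (Mt j) (Ct j)) = true
  | 0 => c_t_0
  | 1 => c_t_1
  | 2 => c_t_2
  | 3 => c_t_3
  | 4 => c_t_4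
  | 5 => c_t_5
  | 6 => c_t_6
  | 7 => c_t_7

theorem c_w0 : ∀ j : Fin 8, chk (we j ++ [.z]) ([.z] ++ nfw (Mw0 j) (Cw0 j)) = true
  | 0 => c_w0_0
  | 1 => c_w0_1
  | 2 => c_w0_2
  | 3 => c_w0_3
  | 4 => c_w0_4
  | 5 => c_w0_5
  | 6 => c_w0_6
  | 7 => c_w0_7

theorem c_w1 : ∀ j : Fin 8, chk (we j ++ wr) (wr ++ nfw (Mw1 j) (Cw1 j)) = true
  | 0 => c_w1_0
  | 1 => c_w1_1
  | 2 => c_w1_2
  | 3 => c_w1_3
  | 4 => c_w1_4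
  | 5 => c_w1_5
  | 6 => c_w1_6
  | 7 => c_w1_7

theorem c_w2 : ∀ j : Fin 8, chk (we j ++ ww2) (ww2 ++ nfw (Mw2 j) (Cw2 j)) = true
  | 0 => c_w2_0
  | 1 => c_w2_1
  | 2 => c_w2_2
  | 3 => c_w2_3
  | 4 => c_w2_4
  | 5 => c_w2_5
  | 6 => c_w2_6
  | 7 => c_w2_7

theorem c_w3 : ∀ j : Fin 8, chk (we j ++ ww3) (ww3 ++ nfw (Mw3 j) (Cw3 j)) = true
  | 0 => c_w3_0
  | 1 => c_w3_1
  | 2 => c_w3_2
  | 3 => c_w3_3
  | 4 => c_w3_4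
  | 5 => c_w3_5
  | 6 => c_w3_6
  | 7 => c_w3_7

theorem c_w4 : ∀ j : Fin 8, chk (we j ++ ww4) (ww4 ++ nfw (Mw4 j) (Cw4 j)) = true
  | 0 => c_w4_0
  | 1 => c_w4_1
  | 2 => c_w4_2
  | 3 => c_w4_3
  | 4 => c_w4_4
  | 5 => c_w4_5
  | 6 => c_w4_6
  | 7 => c_w4_7

theorem c_w5 : ∀ j : Fin 8, chk (we j ++ ww5) (ww5 ++ nfw (Mw5 j) (Cw5 j)) = true
  | 0 => c_w5_0
  | 1 => c_w5_1
  | 2 => c_w5_2
  | 3 => c_w5_3
  | 4 => c_w5_4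
  | 5 => c_w5_5
  | 6 => c_w5_6
  | 7 => c_w5_7

theorem c_k0 : ∀ j : Fin 8, chk (we j ++ wk0) (wk0 ++ nfw (Mk0 j) (Ck0 j)) = true
  | 0 => c_k0_0
  | 1 => c_k0_1
  | 2 => c_k0_2
  | 3 => c_k0_3
  | 4 => c_k0_4
  | 5 => c_k0_5
  | 6 => c_k0_6
  | 7 => c_k0_7

theorem c_k1 : ∀ j : Fin 8, chk (we j ++ wk1) (wk1 ++ nfw (Mk1 j) (Ck1 j)) = true
  | 0 => c_k1_0
  | 1 => c_k1_1
  | 2 => c_k1_2
  | 3 => c_k1_3
  | 4 => c_k1_4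
  | 5 => c_k1_5
  | 6 => c_k1_6
  | 7 => c_k1_7

theorem c_n : ∀ j : Fin 8, chk (we j ++ wn) (wn ++ nfw (Mn j) (Cn j)) = true
  | 0 => c_n_0
  | 1 => c_n_1
  | 2 => c_n_2
  | 3 => c_n_3
  | 4 => c_n_4
  | 5 => c_n_5
  | 6 => c_n_6
  | 7 => c_n_7

theorem c_kw : ∀ (c : Fin 2) (a : Fin 6), chk (ww a ++ wk c) (wk c ++ wnfw (Kw c a) (Ke c a)) = true
  | 0, 0 => c_kw_00
  | 0, 1 => c_kw_01
  | 0, 2 => c_kw_02
  | 0, 3 => c_kw_03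
  | 0, 4 => c_kw_04
  | 0, 5 => c_kw_05
  | 1, 0 => c_kw_10
  | 1, 1 => c_kw_11
  | 1, 2 => c_kw_12
  | 1, 3 => c_kw_13
  | 1, 4 => c_kw_14
  | 1, 5 => c_kw_15

theorem c_nw : ∀ a : Fin 6, chk (ww a ++ wn) (wn ++ wnfw (Nw a) (Ne a)) = true
  | 0 => c_nw_0
  | 1 => c_nw_1
  | 2 => c_nw_2
  | 3 => c_nw_3
  | 4 => c_nw_4
  | 5 => c_nw_5

theorem c_ww : ∀ (a b : Fin 6) (_ : a ≤ b), chk (ww a ++ ww b) (w2p wt (bc a b) ++ (ww b ++ ww a)) = true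
  | 0, 0, _ => c_ww_00
  | 0, 1, _ => c_ww_01
  | 0, 2, _ => c_ww_02
  | 0, 3, _ => c_ww_03
  | 0, 4, _ => c_ww_04
  | 0, 5, _ => c_ww_05
  | 1, 0, h => absurd h (by decide)
  | 1, 1, _ => c_ww_11
  | 1, 2, _ => c_ww_12
  | 1, 3, _ => c_ww_13
  | 1, 4, _ => c_ww_14
  | 1, 5, _ => c_ww_15
  | 2, 0, h => absurd h (by decide)
  | 2, 1, h => absurd h (by decide)
  | 2, 2, _ => c_ww_22
  | 2, 3, _ => c_ww_23
  | 2, 4, _ => c_ww_24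
  | 2, 5, _ => c_ww_25
  | 3, 0, h => absurd h (by decide)
  | 3, 1, h => absurd h (by decide)
  | 3, 2, h => absurd h (by decide)
  | 3, 3, _ => c_ww_33
  | 3, 4, _ => c_ww_34
  | 3, 5, _ => c_ww_35
  | 4, 0, h => absurd h (by decide)
  | 4, 1, h => absurd h (by decide)
  | 4, 2, h => absurd h (by decide)
  | 4, 3, h => absurd h (by decide)
  | 4, 4, _ => c_ww_44
  | 4, 5, _ => c_ww_45
  | 5, 0, h => absurd h (by decide)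
  | 5, 1, h => absurd h (by decide)
  | 5, 2, h => absurd h (by decide)
  | 5, 3, h => absurd h (by decide)
  | 5, 4, h => absurd h (by decide)
  | 5, 5, _ => c_ww_55

theorem c_wsq : ∀ a : Fin 6, chk (ww a ++ ww a) (w2p wt (sqw a)) = true
  | 0 => c_wsq_0
  | 1 => c_wsq_1
  | 2 => c_wsq_2
  | 3 => c_wsq_3
  | 4 => c_wsq_4
  | 5 => c_wsq_5

theorem c_wt : ∀ a : Fin 6, chk (ww a ++ wt) (wt ++ ww a) = true
  | 0 => c_wt_0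
  | 1 => c_wt_1
  | 2 => c_wt_2
  | 3 => c_wt_3
  | 4 => c_wt_4
  | 5 => c_wt_5

theorem c_wy : ∀ a : Fin 6, chk (ww a ++ wy1) (wy1 ++ ww a) = true
  | 0 => c_wy_0
  | 1 => c_wy_1
  | 2 => c_wy_2
  | 3 => c_wy_3
  | 4 => c_wy_4
  | 5 => c_wy_5

theorem c_kt : ∀ c : Fin 2, chk (wk c ++ wt) (wt ++ wk c) = true
  | 0 => c_kt_0
  | 1 => c_kt_1

theorem c_ky : ∀ c : Fin 2, chk (wk c ++ wy1) (wy1 ++ wk c) = true
  | 0 => c_ky_0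
  | 1 => c_ky_1

theorem c_e3 : ∀ j : Fin 4, chk (we (Fin.castAdd 4 j) ++ we (Fin.castAdd 4 j) ++ we (Fin.castAdd 4 j)) [] = true
  | 0 => c_e3_0
  | 1 => c_e3_1
  | 2 => c_e3_2
  | 3 => c_e3_3

theorem c_ey : ∀ j : Fin 4, chk (we (Fin.castAdd 4 j) ++ wy1) (wy1 ++ we (Fin.castAdd 4 j)) = true
  | 0 => c_ey_0
  | 1 => c_ey_1
  | 2 => c_ey_2
  | 3 => c_ey_3

theorem c_ee : ∀ (i j : Fin 4) (_ : i ≤ j), chk (we (Fin.castAdd 4 i) ++ we (Fin.castAdd 4 j))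
    (wp wy1 (fm (Fin.castAdd 4 i) (Fin.castAdd 4 j)) ++ (we (Fin.castAdd 4 j) ++ we (Fin.castAdd 4 i))) = true
  | 0, 0, _ => c_ee_00
  | 0, 1, _ => c_ee_01
  | 0, 2, _ => c_ee_02
  | 0, 3, _ => c_ee_03
  | 1, 0, h => absurd h (by decide)
  | 1, 1, _ => c_ee_11
  | 1, 2, _ => c_ee_12
  | 1, 3, _ => c_ee_13
  | 2, 0, h => absurd h (by decide)
  | 2, 1, h => absurd h (by decide)
  | 2, 2, _ => c_ee_22
  | 2, 3, _ => c_ee_23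
  | 3, 0, h => absurd h (by decide)
  | 3, 1, h => absurd h (by decide)
  | 3, 2, h => absurd h (by decide)
  | 3, 3, _ => c_ee_33

theorem c_ef : ∀ (i j : Fin 4) (_ : i ≤ j), chk (we (Fin.castAdd 4 i) ++ cj wr (we (Fin.castAdd 4 j)))
    (cj wr (we (Fin.castAdd 4 j)) ++ we (Fin.castAdd 4 i)) = true
  | 0, 0, _ => c_ef_00
  | 0, 1, _ => c_ef_01
  | 0, 2, _ => c_ef_02
  | 0, 3, _ => c_ef_03
  | 1, 0, h => absurd h (by decide)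
  | 1, 1, _ => c_ef_11
  | 1, 2, _ => c_ef_12
  | 1, 3, _ => c_ef_13
  | 2, 0, h => absurd h (by decide)
  | 2, 1, h => absurd h (by decide)
  | 2, 2, _ => c_ef_22
  | 2, 3, _ => c_ef_23
  | 3, 0, h => absurd h (by decide)
  | 3, 1, h => absurd h (by decide)
  | 3, 2, h => absurd h (by decide)
  | 3, 3, _ => c_ef_33

end Cfsg.Agent.H863.U33
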