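import Cfsg.Agent.H863.U33.Dat
import Cfsg.Agent.H863.U33.ChkAll
import Cfsg.Agent.BM.KHAll
import Cfsg.Agent.BabyM.TransCover

/-!
# S5525, part F: the instance of `TB` in the Baby Monster (helper863)
-/

set_option autoImplicit false

namespace Cfsg.Agent.H863.U33

open Cfsg.Agent.BabyM.Conc Cfsg.Agent.BabyM.Inst Cfsg.Agent.BabyM.TransInv Cfsg.Agent.H819.U33 Cfsg.Agent.BM.StageW
open Cfsg.Agent.Monster.VecEngine Cfsg.Agent.Monster.VecSpace Cfsg.Agent.BabyM.WordsInst Cfsg.Agent.BabyM.TransCover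

/-! ### `y ≠ 1` -/

theorem vecU_apply (x : Pl) (l : ℕ) (hl : U.testBit l = true) : vecU ℚ U x ⟨l, hl⟩ = (val x l : ℚ) := rfl

theorem ne_of_val {x y : Pl} {l : ℕ} (hl : U.testBit l = true) (h : val x l ≠ val y l) :
    vecU ℚ U x ≠ vecU ℚ U y := by
  intro he
  have h1 := congrFun he ⟨l, hl⟩
  rw [vecU_apply, vecU_apply] at h1
  exact h (by exact_mod_cast h1)

theorem mv_sound {v : List Ltr} {x : Pl} {l : ℕ} (h : mv v x l = true) : W v (vecU ℚ U x) ≠ vecU ℚ U x := by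
  unfold mv at h
  rw [Bool.and_eq_true] at h
  obtain ⟨a, ha, h1⟩ := W_run h.2
  rw [← ha]
  rw [Bool.not_eq_true', decide_eq_false_iff_not] at h1
  exact ne_of_val h.1 h1

/-- a word moving a vector is not trivial -/
theorem ne_one_of_mv {v : List Ltr} {x : Pl} {l : ℕ} (h : mv v x l = true) : g v ≠ 1 := by
  intro h0
  have h2 : Wg v = 1 := inv_eq_one.1 h0
  have h1 : (Wg v : V ≃ₗ[ℚ] V) (vecU ℚ U x) = vecU ℚ U x := by rw [h2]; rfl
  exact mv_sound h h1

theorem y_ne : g wy1 ≠ 1 := ne_one_of_mv c_y1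

/-! ### Words of normal forms -/

theorem y_three : g wy1 ^ 3 = 1 := by
  have h := eq_of c_y3
  rw [g_append, g_append, g_nil] at h
  rw [pow_succ, pow_succ, pow_one, h]

/-- the first four generators -/
noncomputable def E (i : Fin 4) : G := g (we (Fin.castAdd 4 i))

theorem E_three (i : Fin 4) : E i ^ 3 = 1 := by
  have h := eq_of (c_e3 i)
  rw [g_append, g_append, g_nil] at h
  rw [pow_succ, pow_succ, pow_one]
  exact h

theorem g_wp {w : List Ltr} (h : g w ^ 3 = 1) (k : ZMod 3) : g (wp w k) = g w ^ k.val := by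
  fin_cases k
  · exact g_nil.trans (pow_zero _).symm
  · exact (pow_one _).symm
  · show g (winv w) = g w ^ 2
    rw [g_winv, inv_eq_iff_mul_eq_one, ← pow_succ', h]

theorem g_p4 (a b c d : ZMod 3) : g (p4 a b c d) = E 0 ^ a.val * E 1 ^ b.val * E 2 ^ c.val * E 3 ^ d.val := by
  unfold p4
  rw [g_append, g_append, g_append]
  have h0 : g we0 ^ 3 = 1 := E_three 0
  have h1 : g we1 ^ 3 = 1 := E_three 1
  have h2 : g we2 ^ 3 = 1 := E_three 2
  have h3 : g we3 ^ 3 = 1 := E_three 3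
  rw [g_wp h0, g_wp h1, g_wp h2, g_wp h3]
  rfl

theorem cpow {G : Type*} [Group G] (r x : G) (n : ℕ) : (r⁻¹ * x * r) ^ n = r⁻¹ * x ^ n * r := by
  have h := conj_pow (i := n) (a := r⁻¹) (b := x)
  rwa [inv_inv] at h

/-- the generators of `P` -/
noncomputable def eG (j : Fin 8) : G := g (we j)

theorem eG_nat (i : Fin 4) : eG (Fin.natAdd 4 i) = (g wr)⁻¹ * E i * g wr := by
  fin_cases i <;> exact g_cj _ _

theorem g_nfw (v : Fin 8 → ZMod 3) (c : ZMod 3) : g (nfw v c) = nf (g wy1) eG v c := by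
  unfold nfw nf
  rw [g_append, g_append, g_p4, g_wp y_three]
  have h4 : eG 4 = (g wr)⁻¹ * E 0 * g wr := eG_nat 0
  have h5 : eG 5 = (g wr)⁻¹ * E 1 * g wr := eG_nat 1
  have h6 : eG 6 = (g wr)⁻¹ * E 2 * g wr := eG_nat 2
  have h7 : eG 7 = (g wr)⁻¹ * E 3 * g wr := eG_nat 3
  have h0 : eG 0 = E 0 := rfl
  have h1 : eG 1 = E 1 := rfl
  have h2 : eG 2 = E 2 := rfl
  have h3 : eG 3 = E 3 := rfl
  rw [h0, h1, h2, h3, h4, h5, h6, h7, cpow, cpow, cpow, cpow]
  split_ifs with h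
  · rw [h.1, h.2.1, h.2.2.1, h.2.2.2, g_nil]
    simp only [ZMod.val_zero, pow_zero, mul_one, inv_mul_cancel]
  · rw [g_cj, g_p4]
    simp only [mul_assoc, mul_inv_cancel_left]

theorem of_chk {s : List Ltr} {M : Fin 8 → Fin 8 → ZMod 3} {C : Fin 8 → ZMod 3}
    (h : ∀ j : Fin 8, chk (we j ++ s) (s ++ nfw (M j) (C j)) = true) (j : Fin 8) :
    (g s)⁻¹ * eG j * g s = nf (g wy1) eG (M j) (C j) := by
  have h1 := eq_of (h j)
  rw [g_append, g_append, g_nfw] at h1
  rw [mul_assoc]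
  show (g s)⁻¹ * (g (we j) * g s) = _
  rw [h1, inv_mul_cancel_left]

theorem comm_ty : g wt * g wy1 = g wy1 * g wt := comm_of c_ty

theorem r_y : g wr * g wy1 = g wy1 * g wr := comm_of (c_wy 1)

theorem r_r : g wr * g wr = 1 := by
  have h := eq_of (c_wsq 1)
  rw [g_append] at h
  exact h.trans g_nil

theorem E_y (i : Fin 4) : E i * g wy1 = g wy1 * E i := comm_of (c_ey i)

theorem e_y (j : Fin 8) : eG j * g wy1 = g wy1 * eG j := by
  refine Fin.addCases (m := 4) (n := 4) (motive := fun j : Fin 8 => eG j * g wy1 = g wy1 * eG j) (fun i => E_y i) (fun i => ?_) j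
  rw [eG_nat]
  have h1 : Commute (g wr) (g wy1) := r_y
  have h2 : Commute (E i) (g wy1) := E_y i
  exact ((h1.inv_left.mul_left h2).mul_left h1)

theorem fm_neg : ∀ i j, fm j i = - fm i j := by decide

theorem fm_nn : ∀ i j : Fin 4, fm (Fin.natAdd 4 i) (Fin.natAdd 4 j) = fm (Fin.castAdd 4 i) (Fin.castAdd 4 j) := by decide

theorem fm_cn : ∀ i j : Fin 4, fm (Fin.castAdd 4 i) (Fin.natAdd 4 j) = 0 := by decide

theorem fm_nc : ∀ i j : Fin 4, fm (Fin.natAdd 4 i) (Fin.castAdd 4 j) = 0 := by decide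

theorem ypow_neg {y : G} (h : y ^ 3 = 1) (k : ZMod 3) : y ^ (-k).val * y ^ k.val = 1 := by
  rw [← pow_add]
  have : (-k).val + k.val = 0 ∨ (-k).val + k.val = 3 := by
    fin_cases k
    · left; rfl
    · right; rfl
    · right; rfl
  rcases this with h1 | h1
  · rw [h1, pow_zero]
  · rw [h1, h]

theorem ee_le {i j : Fin 4} (h : i ≤ j) : E i * E j = g wy1 ^ (fm (Fin.castAdd 4 i) (Fin.castAdd 4 j)).val * E j * E i := by
  have h1 := eq_of (c_ee i j h)
  rw [g_append, g_append, g_append, g_wp y_three] at h1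
  rw [mul_assoc]
  exact h1

theorem E_E (i j : Fin 4) : E i * E j = g wy1 ^ (fm (Fin.castAdd 4 i) (Fin.castAdd 4 j)).val * E j * E i := by
  rcases le_total i j with h | h
  · exact ee_le h
  · have h1 := ee_le h
    have h2 : fm (Fin.castAdd 4 i) (Fin.castAdd 4 j) = - fm (Fin.castAdd 4 j) (Fin.castAdd 4 i) := fm_neg _ _
    rw [h2, mul_assoc, h1, ← mul_assoc, ← mul_assoc, ypow_neg y_three, one_mul]

theorem E_F_le {i j : Fin 4} (h : i ≤ j) : Commute (E i) ((g wr)⁻¹ * E j * g wr) := by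
  have h1 : g (we (Fin.castAdd 4 i)) * g (cj wr (we (Fin.castAdd 4 j))) =
    g (cj wr (we (Fin.castAdd 4 j))) * g (we (Fin.castAdd 4 i)) := comm_of (c_ef i j h)
  rw [g_cj] at h1
  exact h1

theorem rinv : (g wr)⁻¹ = g wr := inv_eq_of_mul_eq_one_left r_r

theorem E_F (i j : Fin 4) : Commute (E i) ((g wr)⁻¹ * E j * g wr) := by
  rcases le_total i j with h | h
  · exact E_F_le h
  · have h1 : Commute (E j) ((g wr)⁻¹ * E i * g wr) := E_F_le h
    have h2 : (g wr)⁻¹ * (E j * ((g wr)⁻¹ * E i * g wr)) * g wr = (g wr)⁻¹ * (((g wr)⁻¹ * E i * g wr) * E j) * g wr := by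
      rw [h1.eq]
    have h3 : (g wr)⁻¹ * (E j * ((g wr)⁻¹ * E i * g wr)) * g wr = ((g wr)⁻¹ * E j * g wr) * E i := by
      rw [rinv]
      have : g wr * (E j * (g wr * E i * g wr)) * g wr = (g wr * E j * g wr) * (E i * (g wr * g wr)) := by
        simp only [mul_assoc]
      rw [this, r_r, mul_one]
    have h4 : (g wr)⁻¹ * (((g wr)⁻¹ * E i * g wr) * E j) * g wr = E i * ((g wr)⁻¹ * E j * g wr) := by
      rw [rinv]
      have : g wr * (g wr * E i * g wr * E j) * g wr = (g wr * g wr) * E i * (g wr * E j * g wr) := by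
        simp only [mul_assoc]
      rw [this, r_r, one_mul]
    rw [h3, h4] at h2
    exact h2.symm

theorem e_e (i j : Fin 8) : eG i * eG j = g wy1 ^ (fm i j).val * eG j * eG i := by
  refine Fin.addCases (m := 4) (n := 4) (motive := fun i : Fin 8 => eG i * eG j = g wy1 ^ (fm i j).val * eG j * eG i)
    (fun i => ?_) (fun i => ?_) i
  · refine Fin.addCases (m := 4) (n := 4) (motive := fun j : Fin 8 => eG (Fin.castAdd 4 i) * eG j =
      g wy1 ^ (fm (Fin.castAdd 4 i) j).val * eG j * eG (Fin.castAdd 4 i)) (fun j => E_E i j) (fun j => ?_) j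
    rw [fm_cn, eG_nat, ZMod.val_zero, pow_zero, one_mul]
    exact (E_F i j).eq
  · refine Fin.addCases (m := 4) (n := 4) (motive := fun j : Fin 8 => eG (Fin.natAdd 4 i) * eG j =
      g wy1 ^ (fm (Fin.natAdd 4 i) j).val * eG j * eG (Fin.natAdd 4 i)) (fun j => ?_) (fun j => ?_) j
    · rw [fm_nc, eG_nat, ZMod.val_zero, pow_zero, one_mul]
      exact (E_F j i).eq.symm
    · rw [fm_nn, eG_nat, eG_nat]
      have h1 := E_E i j
      have h2 : (g wr)⁻¹ * E i * g wr * ((g wr)⁻¹ * E j * g wr) = (g wr)⁻¹ * (E i * E j) * g wr := by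
        simp only [mul_assoc, mul_inv_cancel_left]
      have hc : Commute ((g wr)⁻¹) (g wy1 ^ (fm (Fin.castAdd 4 i) (Fin.castAdd 4 j)).val) :=
        (Commute.pow_right (show Commute (g wr) (g wy1) from r_y) _).inv_left
      have h3 : (g wr)⁻¹ * (g wy1 ^ (fm (Fin.castAdd 4 i) (Fin.castAdd 4 j)).val * E j * E i) * g wr =
          g wy1 ^ (fm (Fin.castAdd 4 i) (Fin.castAdd 4 j)).val * ((g wr)⁻¹ * E j * g wr) * ((g wr)⁻¹ * E i * g wr) := by
        rw [← mul_assoc, ← mul_assoc, hc.eq]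
        simp only [mul_assoc, mul_inv_cancel_left]
      rw [h2, h1, h3]

theorem e_three (j : Fin 8) : eG j ^ 3 = 1 := by
  refine Fin.addCases (m := 4) (n := 4) (motive := fun j : Fin 8 => eG j ^ 3 = 1) (fun i => E_three i) (fun i => ?_) j
  rw [eG_nat, cpow, E_three, mul_one, inv_mul_cancel]

/-! ### `W` -/

/-- the generators of `W` -/
noncomputable def wG (a : Fin 6) : G := g (ww a)

/-- the generators of `K` -/
noncomputable def kG (c : Fin 2) : G := g (wk c)

theorem g_w2p (w : List Ltr) (k : ZMod 2) : g (w2p w k) = g w ^ k.val := by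
  fin_cases k
  · exact g_nil.trans (pow_zero _).symm
  · exact (pow_one _).symm

theorem g_wnfw (m : Fin 6 → ZMod 2) (c : ZMod 2) : g (wnfw m c) = wnf (g wt) wG m c := by
  unfold wnfw wnf
  rw [g_append, g_append, g_append, g_append, g_append, g_append, g_w2p, g_w2p, g_w2p, g_w2p, g_w2p, g_w2p, g_w2p]
  rfl

theorem t_t : g wt * g wt = 1 := by
  have h := eq_of c_t2
  rwa [g_append, g_nil] at h

theorem w_t (a : Fin 6) : wG a * g wt = g wt * wG a := comm_of (c_wt a)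

theorem w_w_le {a b : Fin 6} (h : a ≤ b) : wG a * wG b = g wt ^ (bc a b).val * (wG b * wG a) := by
  have h1 := eq_of (c_ww a b h)
  rw [g_append, g_append, g_append, g_w2p] at h1
  exact h1

theorem bc_symm : ∀ a b, bc a b = bc b a := by decide

theorem tpow_sq (k : ZMod 2) : g wt ^ k.val * g wt ^ k.val = 1 := by
  fin_cases k
  · show g wt ^ 0 * g wt ^ 0 = 1
    rw [pow_zero, one_mul]
  · show g wt ^ 1 * g wt ^ 1 = 1
    rw [pow_one, t_t]

theorem w_w (a b : Fin 6) : wG a * wG b = g wt ^ (bc a b).val * wG b * wG a := by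
  rcases le_total a b with h | h
  · rw [mul_assoc]
    exact w_w_le h
  · have h1 := w_w_le h
    rw [bc_symm, mul_assoc, h1, ← mul_assoc, tpow_sq, one_mul]

theorem w_sq (a : Fin 6) : wG a * wG a = g wt ^ (sqw a).val := by
  have h := eq_of (c_wsq a)
  rw [g_append, g_w2p] at h
  exact h

theorem w_e (a : Fin 6) (j : Fin 8) : (wG a)⁻¹ * eG j * wG a = nf (g wy1) eG (Mw a j) (Cw a j) := by
  fin_cases a
  · exact of_chk c_w0 j
  · exact of_chk c_w1 j
  · exact of_chk c_w2 j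
  · exact of_chk c_w3 j
  · exact of_chk c_w4 j
  · exact of_chk c_w5 j

theorem k_e (c : Fin 2) (j : Fin 8) : (kG c)⁻¹ * eG j * kG c = nf (g wy1) eG (Mk c j) (Ck c j) := by
  fin_cases c
  · exact of_chk c_k0 j
  · exact of_chk c_k1 j

theorem k_w (c : Fin 2) (a : Fin 6) : (kG c)⁻¹ * wG a * kG c = wnf (g wt) wG (Kw c a) (Ke c a) := by
  have h1 := eq_of (c_kw c a)
  rw [g_append, g_append, g_wnfw] at h1
  rw [mul_assoc]
  show (g (wk c))⁻¹ * (g (ww a) * g (wk c)) = _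
  rw [h1, inv_mul_cancel_left]

theorem n_w (a : Fin 6) : (g wn)⁻¹ * wG a * g wn = wnf (g wt) wG (Nw a) (Ne a) := by
  have h1 := eq_of (c_nw a)
  rw [g_append, g_append, g_wnfw] at h1
  rw [mul_assoc]
  show (g wn)⁻¹ * (g (ww a) * g wn) = _
  rw [h1, inv_mul_cancel_left]

theorem n_y : (g wn)⁻¹ * g wy1 * g wn = (g wy1)⁻¹ := by
  have h1 := eq_of c_ny
  rw [g_append, g_append, g_winv] at h1
  rw [mul_assoc, h1, inv_mul_cancel_left]

/-- **The instance.** -/
theorem tb : TB (g wy1) eG (g wt) wG kG (g wn) where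
  y3 := y_three
  y1 := y_ne
  e3 := e_three
  ey := e_y
  ee := e_e
  t2 := t_t
  ty := comm_ty
  te := of_chk c_t
  w2 := w_sq
  wt := w_t
  wy a := comm_of (c_wy a)
  ww := w_w
  we := w_e
  kt c := comm_of (c_kt c)
  ky c := comm_of (c_ky c)
  kw := k_w
  ke := k_e
  nt := comm_of c_nt
  ny := n_y
  nw := n_w
  ne := of_chk c_n

/-- `y1` is a cube -/
theorem w9_cube : g w9 ^ 3 = g wy1 := by
  have h := eq_of c_w9
  rw [g_append, g_append] at h
  rw [pow_succ, pow_succ, pow_one, h]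

end Cfsg.Agent.H863.U33
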