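import Cfsg.Agent.H863.U33.Num

/-!
# S5525, part F: abstract interface (helper863)

`TB y e t w k n`: the generators of `3^(1+8).2^(1+6).U4(2)` and an element `n` inverting `y`, with all relations.
The instance in the Baby Monster: `H863/U33/Inst.lean`.
-/

set_option autoImplicit false

namespace Cfsg.Agent.H863.U33

variable {G : Type*} [Group G]

/-- normal form of the elements of `P = ⟨y, e⟩` -/
def nf (y : G) (e : Fin 8 → G) (v : Fin 8 → ZMod 3) (b : ZMod 3) : G :=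
  e 0 ^ (v 0).val * e 1 ^ (v 1).val * e 2 ^ (v 2).val * e 3 ^ (v 3).val * e 4 ^ (v 4).val * e 5 ^ (v 5).val *
    e 6 ^ (v 6).val * e 7 ^ (v 7).val * y ^ b.val

/-- normal form of the elements of `W = ⟨t, w⟩` -/
def wnf (t : G) (w : Fin 6 → G) (m : Fin 6 → ZMod 2) (c : ZMod 2) : G :=
  w 0 ^ (m 0).val * w 1 ^ (m 1).val * w 2 ^ (m 2).val * w 3 ^ (m 3).val * w 4 ^ (m 4).val * w 5 ^ (m 5).val * t ^ c.val

/-- the relations -/
structure TB (y : G) (e : Fin 8 → G) (t : G) (w : Fin 6 → G) (k : Fin 2 → G) (n : G) : Prop where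
  y3 : y ^ 3 = 1
  y1 : y ≠ 1
  e3 : ∀ j, e j ^ 3 = 1
  ey : ∀ j, e j * y = y * e j
  ee : ∀ i j, e i * e j = y ^ (fm i j).val * e j * e i
  t2 : t * t = 1
  ty : t * y = y * t
  te : ∀ j, t⁻¹ * e j * t = nf y e (Mt j) (Ct j)
  w2 : ∀ a, w a * w a = t ^ (sqw a).val
  wt : ∀ a, w a * t = t * w a
  wy : ∀ a, w a * y = y * w a
  ww : ∀ a b, w a * w b = t ^ (bc a b).val * w b * w a
  we : ∀ a j, (w a)⁻¹ * e j * w a = nf y e (Mw a j) (Cw a j)
  kt : ∀ c, k c * t = t * k c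
  ky : ∀ c, k c * y = y * k c
  kw : ∀ c a, (k c)⁻¹ * w a * k c = wnf t w (Kw c a) (Ke c a)
  ke : ∀ c j, (k c)⁻¹ * e j * k c = nf y e (Mk c j) (Ck c j)
  nt : n * t = t * n
  ny : n⁻¹ * y * n = y⁻¹
  nw : ∀ a, n⁻¹ * w a * n = wnf t w (Nw a) (Ne a)
  ne : ∀ j, n⁻¹ * e j * n = nf y e (Mn j) (Cn j)

/-- `P = 3^(1+8)` -/
def PP (y : G) (e : Fin 8 → G) : Subgroup G := Subgroup.closure ({y} ∪ Set.range e)

/-- `U = P⟨t⟩` -/
def UU (y : G) (e : Fin 8 → G) (t : G) : Subgroup G := Subgroup.closure ({y} ∪ Set.range e ∪ {t})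

/-- `O = P:2^(1+6)` -/
def OO (y : G) (e : Fin 8 → G) (t : G) (w : Fin 6 → G) : Subgroup G :=
  Subgroup.closure ({y} ∪ Set.range e ∪ {t} ∪ Set.range w)

/-- `K = P:2^(1+6).U4(2)` -/
def KK (y : G) (e : Fin 8 → G) (t : G) (w : Fin 6 → G) (k : Fin 2 → G) : Subgroup G :=
  Subgroup.closure ({y} ∪ Set.range e ∪ {t} ∪ Set.range w ∪ Set.range k)

/-! ### The exact statements (owners: see the messages) -/

/-- (L1) normal form -/
def StNF : Prop := ∀ {G : Type} [Group G] {y : G} {e : Fin 8 → G} {t : G} {w : Fin 6 → G} {k : Fin 2 → G} {n : G},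
  TB y e t w k n →
    (∀ p, p ∈ PP y e ↔ ∃ v b, p = nf y e v b) ∧
    (∀ v b v' b', nf y e v b = nf y e v' b' → v = v' ∧ b = b') ∧
    Nat.card (PP y e) = 3 ^ 9

/-- action of an element on normal forms modulo `y`: `s⁻¹ nf v b s = nf (v M) _` -/
def Acts (y : G) (e : Fin 8 → G) (s : G) (M : Fin 8 → Fin 8 → ZMod 3) : Prop :=
  ∀ v b, ∃ b', s⁻¹ * nf y e v b * s = nf y e (fun j => ∑ i, v i * M i j) b'

/-- (L1') the generators act by their matrices -/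
def StAct : Prop := ∀ {G : Type} [Group G] {y : G} {e : Fin 8 → G} {t : G} {w : Fin 6 → G} {k : Fin 2 → G} {n : G},
  TB y e t w k n →
    Acts y e t Mt ∧ (∀ a, Acts y e (w a) (Mw a)) ∧ (∀ c, Acts y e (k c) (Mk c)) ∧ Acts y e n Mn

/-- (L2) orbits on `P ∖ ⟨y⟩`: representatives `e 0` (class 3A) and `nf vB 0` (class 3B) -/
def vB : Fin 8 → ZMod 3 := ![1, 0, 0, 0, 2, 0, 0, 1]

def StOrb : Prop := ∀ {G : Type} [Group G] {y : G} {e : Fin 8 → G} {t : G} {w : Fin 6 → G} {k : Fin 2 → G} {n : G},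
  TB y e t w k n → ∀ p ∈ PP y e, p ∉ Subgroup.zpowers y →
    ∃ h ∈ KK y e t w k, h * p * h⁻¹ = e 0 ∨ h * p * h⁻¹ = nf y e vB 0

/-- (L3) the order of `O` -/
def StO : Prop := ∀ {G : Type} [Group G] {y : G} {e : Fin 8 → G} {t : G} {w : Fin 6 → G} {k : Fin 2 → G} {n : G},
  TB y e t w k n → Nat.card (OO y e t w) = 3 ^ 9 * 2 ^ 7

/-- (L4) the order of `K` -/
def StK : Prop := ∀ {G : Type} [Group G] [Finite G] {y : G} {e : Fin 8 → G} {t : G} {w : Fin 6 → G} {k : Fin 2 → G} {n : G},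
  TB y e t w k n → 65303470080 ≤ Nat.card (KK y e t w k)

/-- (L4') if `|C(y)| ≤ 65303470080`: `C(y) = K`, everything is normal, and an element of `K` which acts trivially on
`O / U` lies in `O` -/
def StC : Prop := ∀ {G : Type} [Group G] [Finite G] {y : G} {e : Fin 8 → G} {t : G} {w : Fin 6 → G} {k : Fin 2 → G} {n : G},
  TB y e t w k n → Nat.card (Subgroup.centralizer {y}) ≤ 65303470080 →
    Subgroup.centralizer {y} = KK y e t w k ∧ Nat.card (Subgroup.centralizer {y}) = 65303470080 ∧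
    (∀ g : G, (g⁻¹ * y * g = y ∨ g⁻¹ * y * g = y⁻¹) →
      (∀ p ∈ PP y e, g⁻¹ * p * g ∈ PP y e) ∧ (∀ p ∈ UU y e t, g⁻¹ * p * g ∈ UU y e t) ∧
      (∀ p ∈ OO y e t w, g⁻¹ * p * g ∈ OO y e t w)) ∧
    (∀ g ∈ Subgroup.centralizer {y}, (∀ p ∈ OO y e t w, p⁻¹ * (g⁻¹ * p * g) ∈ UU y e t) → g ∈ OO y e t w) ∧
    (∀ g ∈ OO y e t w, g ^ 9 = 1 → g ∈ PP y e)

/-- (L6) `T ≤ P`: abstract form. `T = ⟨y, a, b⟩` of exponent 3 modulo `y`, normalised by `w0`, which permutes the four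
subgroups of order 3 of `T/⟨y⟩` transitively -/
def StT : Prop := ∀ {G : Type} [Group G] [Finite G] {y : G} {e : Fin 8 → G} {t : G} {w : Fin 6 → G} {k : Fin 2 → G} {n : G},
  TB y e t w k n → Nat.card (Subgroup.centralizer {y}) ≤ 65303470080 →
    ∀ a b s : G, a ^ 3 = 1 → b ^ 3 = 1 → a * y = y * a → b * y = y * b → b⁻¹ * a * b = a * y →
      s⁻¹ * y * s = y⁻¹ → s⁻¹ * a * s = a ^ 2 * b ^ 2 → s⁻¹ * b * s = a * b ^ 2 * y → a ∈ PP y e

end Cfsg.Agent.H863.U33
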