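import Cfsg.Agent.H863.U33.Words

/-! # S5525, part F: kernel checks (helper863) -/

set_option autoImplicit false
set_option Elab.async false

namespace Cfsg.Agent.H863.U33

open Cfsg.Agent.BabyM.Conc Cfsg.Agent.BabyM.Inst Cfsg.Agent.BabyM.TransInv Cfsg.Agent.H819.U33 Cfsg.Agent.BM.StageW
open Cfsg.Agent.Monster.VecEngine Cfsg.Agent.BabyM.WordsInst

theorem c_y3 : chk (wy1 ++ wy1 ++ wy1) [] = true := by decide +kernel

theorem c_e3_0 : chk (we 0 ++ we 0 ++ we 0) [] = true := by decide +kernel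

theorem c_ey_0 : chk (we 0 ++ wy1) (wy1 ++ we 0) = true := by decide +kernel

theorem c_e3_1 : chk (we 1 ++ we 1 ++ we 1) [] = true := by decide +kernel

theorem c_ey_1 : chk (we 1 ++ wy1) (wy1 ++ we 1) = true := by decide +kernel

theorem c_e3_2 : chk (we 2 ++ we 2 ++ we 2) [] = true := by decide +kernel

theorem c_ey_2 : chk (we 2 ++ wy1) (wy1 ++ we 2) = true := by decide +kernel

theorem c_e3_3 : chk (we 3 ++ we 3 ++ we 3) [] = true := by decide +kernel

theorem c_ey_3 : chk (we 3 ++ wy1) (wy1 ++ we 3) = true := by decide +kernel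

theorem c_ee_00 : chk (we 0 ++ we 0) (wp wy1 (fm 0 0) ++ (we 0 ++ we 0)) = true := by decide +kernel

theorem c_ee_01 : chk (we 0 ++ we 1) (wp wy1 (fm 0 1) ++ (we 1 ++ we 0)) = true := by decide +kernel

theorem c_ee_02 : chk (we 0 ++ we 2) (wp wy1 (fm 0 2) ++ (we 2 ++ we 0)) = true := by decide +kernel

theorem c_ee_03 : chk (we 0 ++ we 3) (wp wy1 (fm 0 3) ++ (we 3 ++ we 0)) = true := by decide +kernel

theorem c_ee_11 : chk (we 1 ++ we 1) (wp wy1 (fm 1 1) ++ (we 1 ++ we 1)) = true := by decide +kernel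

theorem c_ee_12 : chk (we 1 ++ we 2) (wp wy1 (fm 1 2) ++ (we 2 ++ we 1)) = true := by decide +kernel

theorem c_ee_13 : chk (we 1 ++ we 3) (wp wy1 (fm 1 3) ++ (we 3 ++ we 1)) = true := by decide +kernel

theorem c_ee_22 : chk (we 2 ++ we 2) (wp wy1 (fm 2 2) ++ (we 2 ++ we 2)) = true := by decide +kernel

theorem c_ee_23 : chk (we 2 ++ we 3) (wp wy1 (fm 2 3) ++ (we 3 ++ we 2)) = true := by decide +kernel

theorem c_ee_33 : chk (we 3 ++ we 3) (wp wy1 (fm 3 3) ++ (we 3 ++ we 3)) = true := by decide +kernel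

/-- a word moves a vector -/
noncomputable def mv (v : List Ltr) (x : Pl) (l : ℕ) : Bool :=
  and (U.testBit l) (runL (v.map Ltr.prog) x fun a => !decide (val a l = val x l))

theorem c_y1 : mv wy1 vB 14 = true := by decide +kernel

end Cfsg.Agent.H863.U33
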