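import Cfsg.Agent.H863.U33.Words

/-! # S5525, part F: kernel checks (helper863) -/

set_option autoImplicit false
set_option Elab.async false

namespace Cfsg.Agent.H863.U33

open Cfsg.Agent.BabyM.Conc Cfsg.Agent.BabyM.Inst Cfsg.Agent.BabyM.TransInv Cfsg.Agent.H819.U33 Cfsg.Agent.BM.StageW
open Cfsg.Agent.Monster.VecEngine Cfsg.Agent.BabyM.WordsInst

theorem c_ww_00 : chk (ww 0 ++ ww 0) (w2p wt (bc 0 0) ++ (ww 0 ++ ww 0)) = true := by decide +kernel

theorem c_ww_01 : chk (ww 0 ++ ww 1) (w2p wt (bc 0 1) ++ (ww 1 ++ ww 0)) = true := by decide +kernel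

theorem c_ww_02 : chk (ww 0 ++ ww 2) (w2p wt (bc 0 2) ++ (ww 2 ++ ww 0)) = true := by decide +kernel

theorem c_ww_03 : chk (ww 0 ++ ww 3) (w2p wt (bc 0 3) ++ (ww 3 ++ ww 0)) = true := by decide +kernel

theorem c_ww_04 : chk (ww 0 ++ ww 4) (w2p wt (bc 0 4) ++ (ww 4 ++ ww 0)) = true := by decide +kernel

theorem c_ww_05 : chk (ww 0 ++ ww 5) (w2p wt (bc 0 5) ++ (ww 5 ++ ww 0)) = true := by decide +kernel

theorem c_ww_11 : chk (ww 1 ++ ww 1) (w2p wt (bc 1 1) ++ (ww 1 ++ ww 1)) = true := by decide +kernel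

theorem c_ww_12 : chk (ww 1 ++ ww 2) (w2p wt (bc 1 2) ++ (ww 2 ++ ww 1)) = true := by decide +kernel

theorem c_ww_13 : chk (ww 1 ++ ww 3) (w2p wt (bc 1 3) ++ (ww 3 ++ ww 1)) = true := by decide +kernel

theorem c_ww_14 : chk (ww 1 ++ ww 4) (w2p wt (bc 1 4) ++ (ww 4 ++ ww 1)) = true := by decide +kernel

theorem c_ww_15 : chk (ww 1 ++ ww 5) (w2p wt (bc 1 5) ++ (ww 5 ++ ww 1)) = true := by decide +kernel

theorem c_ww_22 : chk (ww 2 ++ ww 2) (w2p wt (bc 2 2) ++ (ww 2 ++ ww 2)) = true := by decide +kernel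

theorem c_ww_23 : chk (ww 2 ++ ww 3) (w2p wt (bc 2 3) ++ (ww 3 ++ ww 2)) = true := by decide +kernel

theorem c_ww_24 : chk (ww 2 ++ ww 4) (w2p wt (bc 2 4) ++ (ww 4 ++ ww 2)) = true := by decide +kernel

theorem c_ww_25 : chk (ww 2 ++ ww 5) (w2p wt (bc 2 5) ++ (ww 5 ++ ww 2)) = true := by decide +kernel

theorem c_ww_33 : chk (ww 3 ++ ww 3) (w2p wt (bc 3 3) ++ (ww 3 ++ ww 3)) = true := by decide +kernel

theorem c_ww_34 : chk (ww 3 ++ ww 4) (w2p wt (bc 3 4) ++ (ww 4 ++ ww 3)) = true := by decide +kernel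

theorem c_ww_35 : chk (ww 3 ++ ww 5) (w2p wt (bc 3 5) ++ (ww 5 ++ ww 3)) = true := by decide +kernel

theorem c_ww_44 : chk (ww 4 ++ ww 4) (w2p wt (bc 4 4) ++ (ww 4 ++ ww 4)) = true := by decide +kernel

theorem c_ww_45 : chk (ww 4 ++ ww 5) (w2p wt (bc 4 5) ++ (ww 5 ++ ww 4)) = true := by decide +kernel

theorem c_ww_55 : chk (ww 5 ++ ww 5) (w2p wt (bc 5 5) ++ (ww 5 ++ ww 5)) = true := by decide +kernel

theorem c_wsq_0 : chk (ww 0 ++ ww 0) (w2p wt (sqw 0)) = true := by decide +kernel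

theorem c_wsq_1 : chk (ww 1 ++ ww 1) (w2p wt (sqw 1)) = true := by decide +kernel

theorem c_wsq_2 : chk (ww 2 ++ ww 2) (w2p wt (sqw 2)) = true := by decide +kernel

theorem c_wsq_3 : chk (ww 3 ++ ww 3) (w2p wt (sqw 3)) = true := by decide +kernel

theorem c_wsq_4 : chk (ww 4 ++ ww 4) (w2p wt (sqw 4)) = true := by decide +kernel

theorem c_wsq_5 : chk (ww 5 ++ ww 5) (w2p wt (sqw 5)) = true := by decide +kernel

theorem c_t2 : chk (wt ++ wt) [] = true := by decide +kernel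

theorem c_ty : chk (wt ++ wy1) (wy1 ++ wt) = true := by decide +kernel

theorem c_wt_0 : chk (ww 0 ++ wt) (wt ++ ww 0) = true := by decide +kernel

theorem c_wy_0 : chk (ww 0 ++ wy1) (wy1 ++ ww 0) = true := by decide +kernel

theorem c_wt_1 : chk (ww 1 ++ wt) (wt ++ ww 1) = true := by decide +kernel

theorem c_wy_1 : chk (ww 1 ++ wy1) (wy1 ++ ww 1) = true := by decide +kernel

theorem c_wt_2 : chk (ww 2 ++ wt) (wt ++ ww 2) = true := by decide +kernel

theorem c_wy_2 : chk (ww 2 ++ wy1) (wy1 ++ ww 2) = true := by decide +kernel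

theorem c_wt_3 : chk (ww 3 ++ wt) (wt ++ ww 3) = true := by decide +kernel

theorem c_wy_3 : chk (ww 3 ++ wy1) (wy1 ++ ww 3) = true := by decide +kernel

theorem c_wt_4 : chk (ww 4 ++ wt) (wt ++ ww 4) = true := by decide +kernel

theorem c_wy_4 : chk (ww 4 ++ wy1) (wy1 ++ ww 4) = true := by decide +kernel

theorem c_wt_5 : chk (ww 5 ++ wt) (wt ++ ww 5) = true := by decide +kernel

theorem c_wy_5 : chk (ww 5 ++ wy1) (wy1 ++ ww 5) = true := by decide +kernel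

theorem c_kt_0 : chk (wk 0 ++ wt) (wt ++ wk 0) = true := by decide +kernel

theorem c_ky_0 : chk (wk 0 ++ wy1) (wy1 ++ wk 0) = true := by decide +kernel

theorem c_kt_1 : chk (wk 1 ++ wt) (wt ++ wk 1) = true := by decide +kernel

theorem c_ky_1 : chk (wk 1 ++ wy1) (wy1 ++ wk 1) = true := by decide +kernel

theorem c_nt : chk (wn ++ wt) (wt ++ wn) = true := by decide +kernel

theorem c_ny : chk (wy1 ++ wn) (wn ++ winv wy1) = true := by decide +kernel

end Cfsg.Agent.H863.U33
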