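import Mathlib

/-!
# S5525, part F: the numbers of the 3-local subgroup `3^(1+8).2^(1+6).U4(2)` of the Baby Monster (helper863)

Rows: `s⁻¹ e_j s = nf (row j) (constant j)`.
-/

set_option autoImplicit false

namespace Cfsg.Agent.H863.U33

/-- `e_i e_j = y^(fm i j) e_j e_i` -/
def fm : Fin 8 → Fin 8 → ZMod 3 :=
  ![![0, 1, 0, 0, 0, 0, 0, 0],
    ![2, 0, 0, 0, 0, 0, 0, 0],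
    ![0, 0, 0, 2, 0, 0, 0, 0],
    ![0, 0, 1, 0, 0, 0, 0, 0],
    ![0, 0, 0, 0, 0, 1, 0, 0],
    ![0, 0, 0, 0, 2, 0, 0, 0],
    ![0, 0, 0, 0, 0, 0, 0, 2],
    ![0, 0, 0, 0, 0, 0, 1, 0]]

/-- `w_a^2 = t^(sqw a)` -/
def sqw : Fin 6 → ZMod 2 := ![0, 0, 0, 0, 0, 1]

/-- `w_a w_b = t^(bc a b) w_b w_a` -/
def bc : Fin 6 → Fin 6 → ZMod 2 :=
  ![![0, 1, 0, 0, 0, 0],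
    ![1, 0, 0, 1, 0, 0],
    ![0, 0, 0, 1, 1, 0],
    ![0, 1, 1, 0, 1, 0],
    ![0, 0, 1, 1, 0, 1],
    ![0, 0, 0, 0, 1, 0]]

/-- the central involution `t` of `2^(1+6)` -/
def Mt : Fin 8 → Fin 8 → ZMod 3 :=
  ![![2, 0, 0, 0, 0, 0, 0, 0],
    ![0, 2, 0, 0, 0, 0, 0, 0],
    ![0, 0, 2, 0, 0, 0, 0, 0],
    ![0, 0, 0, 2, 0, 0, 0, 0],
    ![0, 0, 0, 0, 2, 0, 0, 0],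
    ![0, 0, 0, 0, 0, 2, 0, 0],
    ![0, 0, 0, 0, 0, 0, 2, 0],
    ![0, 0, 0, 0, 0, 0, 0, 2]]

def Ct : Fin 8 → ZMod 3 := ![0, 0, 2, 0, 0, 0, 2, 0]

/-- `w_0` -/
def Mw0 : Fin 8 → Fin 8 → ZMod 3 :=
  ![![1, 0, 0, 0, 0, 0, 0, 0],
    ![0, 1, 0, 0, 0, 0, 0, 0],
    ![0, 0, 1, 0, 0, 0, 0, 0],
    ![0, 0, 0, 1, 0, 0, 0, 0],
    ![0, 0, 0, 0, 2, 0, 0, 0],
    ![0, 0, 0, 0, 0, 2, 0, 0],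
    ![0, 0, 0, 0, 0, 0, 2, 0],
    ![0, 0, 0, 0, 0, 0, 0, 2]]

def Cw0 : Fin 8 → ZMod 3 := ![0, 0, 0, 0, 0, 0, 2, 0]

/-- `w_1` -/
def Mw1 : Fin 8 → Fin 8 → ZMod 3 :=
  ![![0, 0, 0, 0, 1, 0, 0, 0],
    ![0, 0, 0, 0, 0, 1, 0, 0],
    ![0, 0, 0, 0, 0, 0, 1, 0],
    ![0, 0, 0, 0, 0, 0, 0, 1],
    ![1, 0, 0, 0, 0, 0, 0, 0],
    ![0, 1, 0, 0, 0, 0, 0, 0],
    ![0, 0, 1, 0, 0, 0, 0, 0],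
    ![0, 0, 0, 1, 0, 0, 0, 0]]

def Cw1 : Fin 8 → ZMod 3 := ![0, 0, 0, 0, 0, 0, 0, 0]

/-- `w_2` -/
def Mw2 : Fin 8 → Fin 8 → ZMod 3 :=
  ![![2, 0, 0, 0, 0, 0, 0, 0],
    ![0, 2, 0, 0, 0, 0, 0, 0],
    ![0, 0, 1, 0, 0, 0, 0, 0],
    ![0, 0, 0, 1, 0, 0, 0, 0],
    ![0, 0, 0, 0, 2, 0, 0, 0],
    ![0, 0, 0, 0, 0, 2, 0, 0],
    ![0, 0, 0, 0, 0, 0, 1, 0],
    ![0, 0, 0, 0, 0, 0, 0, 1]]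

def Cw2 : Fin 8 → ZMod 3 := ![0, 0, 0, 0, 0, 0, 0, 0]

/-- `w_3` -/
def Mw3 : Fin 8 → Fin 8 → ZMod 3 :=
  ![![0, 0, 0, 2, 0, 0, 0, 0],
    ![0, 0, 2, 0, 0, 0, 0, 0],
    ![0, 2, 0, 0, 0, 0, 0, 0],
    ![2, 0, 0, 0, 0, 0, 0, 0],
    ![0, 0, 0, 0, 0, 0, 0, 1],
    ![0, 0, 0, 0, 0, 0, 1, 0],
    ![0, 0, 0, 0, 0, 1, 0, 0],
    ![0, 0, 0, 0, 1, 0, 0, 0]]

def Cw3 : Fin 8 → ZMod 3 := ![0, 1, 1, 0, 0, 2, 1, 0]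

/-- `w_4` -/
def Mw4 : Fin 8 → Fin 8 → ZMod 3 :=
  ![![0, 0, 1, 2, 0, 0, 0, 0],
    ![0, 0, 1, 1, 0, 0, 0, 0],
    ![2, 2, 0, 0, 0, 0, 0, 0],
    ![1, 2, 0, 0, 0, 0, 0, 0],
    ![0, 0, 0, 0, 0, 0, 1, 2],
    ![0, 0, 0, 0, 0, 0, 1, 1],
    ![0, 0, 0, 0, 2, 2, 0, 0],
    ![0, 0, 0, 0, 1, 2, 0, 0]]

def Cw4 : Fin 8 → ZMod 3 := ![0, 1, 2, 2, 0, 1, 2, 2]

/-- `w_5` -/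
def Mw5 : Fin 8 → Fin 8 → ZMod 3 :=
  ![![0, 1, 0, 0, 0, 0, 0, 0],
    ![2, 0, 0, 0, 0, 0, 0, 0],
    ![0, 0, 0, 2, 0, 0, 0, 0],
    ![0, 0, 1, 0, 0, 0, 0, 0],
    ![0, 0, 0, 0, 0, 1, 0, 0],
    ![0, 0, 0, 0, 2, 0, 0, 0],
    ![0, 0, 0, 0, 0, 0, 0, 2],
    ![0, 0, 0, 0, 0, 0, 1, 0]]

def Cw5 : Fin 8 → ZMod 3 := ![0, 0, 1, 2, 0, 0, 1, 2]

/-- `k_0` -/
def Mk0 : Fin 8 → Fin 8 → ZMod 3 :=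
  ![![0, 0, 1, 0, 0, 0, 0, 0],
    ![0, 0, 1, 2, 0, 0, 0, 0],
    ![0, 2, 0, 0, 0, 0, 0, 0],
    ![2, 1, 0, 0, 0, 0, 0, 0],
    ![0, 0, 0, 0, 1, 1, 0, 0],
    ![0, 0, 0, 0, 2, 0, 0, 0],
    ![0, 0, 0, 0, 0, 0, 1, 1],
    ![0, 0, 0, 0, 0, 0, 0, 1]]

def Ck0 : Fin 8 → ZMod 3 := ![2, 0, 1, 2, 1, 0, 2, 0]

/-- `k_1` -/
def Mk1 : Fin 8 → Fin 8 → ZMod 3 :=
  ![![1, 0, 0, 0, 2, 1, 0, 0],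
    ![1, 2, 0, 0, 1, 0, 0, 0],
    ![0, 0, 2, 1, 0, 0, 0, 1],
    ![0, 0, 0, 1, 0, 0, 1, 2],
    ![0, 1, 0, 0, 2, 2, 0, 0],
    ![1, 1, 0, 0, 0, 1, 0, 0],
    ![0, 0, 2, 2, 0, 0, 2, 0],
    ![0, 0, 2, 0, 0, 0, 1, 1]]

def Ck1 : Fin 8 → ZMod 3 := ![2, 2, 0, 0, 1, 1, 2, 2]

/-- `n` (inverts `y`) -/
def Mn : Fin 8 → Fin 8 → ZMod 3 :=
  ![![1, 1, 1, 1, 0, 0, 0, 0],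
    ![0, 1, 1, 0, 0, 0, 0, 0],
    ![1, 1, 2, 2, 0, 0, 0, 0],
    ![0, 2, 1, 0, 0, 0, 0, 0],
    ![0, 0, 0, 0, 1, 1, 2, 2],
    ![0, 0, 0, 0, 0, 1, 2, 0],
    ![0, 0, 0, 0, 2, 2, 2, 2],
    ![0, 0, 0, 0, 0, 1, 1, 0]]

def Cn : Fin 8 → ZMod 3 := ![2, 2, 0, 2, 1, 1, 0, 2]

/-- all `w_a` -/
def Mw : Fin 6 → Fin 8 → Fin 8 → ZMod 3 := ![Mw0, Mw1, Mw2, Mw3, Mw4, Mw5]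

def Cw : Fin 6 → Fin 8 → ZMod 3 := ![Cw0, Cw1, Cw2, Cw3, Cw4, Cw5]

def Mk : Fin 2 → Fin 8 → Fin 8 → ZMod 3 := ![Mk0, Mk1]

def Ck : Fin 2 → Fin 8 → ZMod 3 := ![Ck0, Ck1]

/-- `k_c⁻¹ w_a k_c = wf (Kw c a) (Ke c a)` -/
def Kw : Fin 2 → Fin 6 → Fin 6 → ZMod 2 :=
  ![![![1, 0, 0, 0, 0, 0],
    ![0, 1, 0, 0, 1, 0],
    ![1, 0, 1, 0, 0, 0],
    ![0, 0, 0, 0, 1, 1],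
    ![0, 0, 0, 0, 1, 0],
    ![0, 0, 1, 1, 1, 1]],
   ![![0, 1, 1, 1, 1, 0],
    ![0, 1, 0, 1, 1, 1],
    ![0, 0, 1, 0, 0, 0],
    ![1, 0, 0, 1, 0, 0],
    ![0, 1, 0, 0, 1, 1],
    ![1, 1, 0, 0, 0, 0]]]

def Ke : Fin 2 → Fin 6 → ZMod 2 := ![![0, 1, 1, 0, 1, 1], ![0, 1, 0, 0, 0, 0]]

/-- `n⁻¹ w_a n = wf (Nw a) (Ne a)` -/
def Nw : Fin 6 → Fin 6 → ZMod 2 :=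
  ![![1, 0, 0, 0, 0, 0],
    ![0, 1, 1, 1, 0, 0],
    ![0, 0, 0, 1, 0, 0],
    ![1, 0, 0, 0, 1, 0],
    ![1, 0, 1, 1, 0, 1],
    ![1, 0, 1, 1, 1, 0]]

def Ne : Fin 6 → ZMod 2 := ![0, 0, 0, 0, 0, 0]

end Cfsg.Agent.H863.U33
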