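import Cfsg.Agent.H819.U33.Base
import Cfsg.Agent.H863.U33.Num

/-!
# S5525, part F: the words of `3^(1+8).2^(1+6).U4(2)` (helper863)
-/

set_option autoImplicit false

namespace Cfsg.Agent.H863.U33

open Cfsg.Agent.BabyM.Conc Cfsg.Agent.BabyM.Inst Cfsg.Agent.BabyM.TransInv Cfsg.Agent.H819.U33

/-- `y1`, class 3B -/
def wy1 : List Ltr :=
  [.taui, .xi, .p, .xi, .p9, .taui, .xi, .p2, .xi, .p8, .h, .p2, .y6, .xii, .p2, .y6, .xii, .p2, .y6, .xii, .p2,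
  .y6, .xii, .hi, .p3, .xii, .p9, .xii, .tau, .p2, .xii, .p10, .xii, .tau]

/-- `e0` -/
def we0 : List Ltr :=
  [.X1, .X2, .X5, .X7, .X8, .X9, .Z0, .Z1, .Z3, .Z4, .Z5, .Z6, .z, .y1, .xii, .p4, .y10, .h, .p6, .y4, .xii,
  .xii, .p5, .h, .p7, .y3]

/-- `e1` -/
def we1 : List Ltr :=
  [.X0, .X1, .X2, .X3, .X4, .Z0, .Z4, .Z7, .Z8, .z, .p9, .hi, .p7, .hi, .p4, .hi, .p7, .hi, .p2, .hi, .p5, .xi,
  .y10, .y3, .p8, .xii, .xii, .y6, .p2]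

/-- `e2` -/
def we2 : List Ltr :=
  [.X0, .X1, .X2, .X6, .X7, .Z1, .Z3, .Z10, .p2, .hi, .xi, .p8, .xii, .p2, .hi, .p9, .xi, .p3, .xi, .h, .p, .y8,
  .xii, .p3, .xii, .p8, .xii, .y8, .p8, .y8, .p, .y3, .xii, .y2, .p5, .y9, .p5, .hi, .p7, .h, .p6, .y3, .p2,
  .y6]

/-- `e3` -/
def we3 : List Ltr :=
  [.X0, .X2, .X4, .Z4, .Z5, .Z8, .Z10, .p8, .y9, .h, .xii, .hi, .xi, .h, .xi, .y9, .p3, .y6, .p8, .xi, .hi, .xi,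
  .p3, .y6, .p, .y1, .xii, .p, .y1, .p3, .h, .p8, .hi, .p4, .hi, .p10, .h, .p5, .hi, .p3, .h, .y5, .p10, .xi,
  .p9]

/-- `t`, central in `2^(1+6)` -/
def wt : List Ltr :=
  [.Z1, .Z3, .Z4, .Z5, .Z7, .Z9, .Z10, .p2, .y4, .p9]

/-- `r = w1` -/
def wr : List Ltr :=
  [.taui, .xi, .p, .xi, .p9, .taui, .xi, .p2, .xi, .p8, .h, .X2, .X3, .X4, .X5, .X7, .X10, .Z2, .Z3, .Z4, .Z5,
  .Z6, .Z7, .Z9, .Z10, .p8, .y9, .h, .xii, .hi, .xi, .h, .xi, .y9, .p3, .y1, .p6, .y3, .xii, .y2, .p2, .y10,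
  .p10, .y5, .xi, .y2, .p8, .xi, .y5, .h, .p6, .hi, .p, .h, .p3, .y3, .p2, .y1, .hi, .p3, .xii, .p9, .xii, .tau,
  .p2, .xii, .p10, .xii, .tau]

/-- `w2` -/
def ww2 : List Ltr :=
  [.X0, .X2, .X4, .X5, .X6, .X7, .X8, .X9, .Z0, .Z1, .Z2, .Z5, .Z10, .y10, .hi, .p6, .y3, .p5, .xi, .xi, .y1,
  .hi]

/-- `w3` -/
def ww3 : List Ltr :=
  [.X0, .X1, .X2, .X3, .X4, .X5, .X6, .X7, .X9, .Z1, .Z2, .Z3, .Z4, .Z8, .Z9, .p10, .y9, .xii, .y9, .y1, .xii,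
  .p, .y1]

/-- `w4` -/
def ww4 : List Ltr :=
  [.X0, .X1, .X2, .X4, .Z2, .Z4, .Z6, .Z7, .Z9, .Z10, .p6, .h, .p10, .hi, .p, .h, .p5, .h, .p2, .h, .p8, .hi,
  .p2, .hi, .p, .hi, .p8, .h, .p3, .y1, .p2]

/-- `w5` -/
def ww5 : List Ltr :=
  [.X1, .X3, .X4, .X9, .Z1, .Z2, .Z7, .p3, .hi, .xi, .p8, .xii, .p2, .hi, .p9, .xi, .p3, .xi, .h, .p8, .h, .p6,
  .y1, .p10, .xi, .y1, .p, .hi, .p10, .hi, .p2, .hi, .p2, .y5, .y3, .xi, .y5, .y3, .p5, .h, .p, .y5, .xii, .p]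

/-- `k0` -/
def wk0 : List Ltr :=
  [.X0, .X3, .X4, .X8, .Z0, .Z1, .Z3, .Z4, .Z5, .Z6, .Z7, .z, .p9, .hi, .p3, .h, .p9, .hi, .p9, .hi, .p7, .h,
  .p4, .hi, .p2, .hi, .p6, .hi, .p7, .h, .p3, .y4, .y8, .p5]

/-- `k1` -/
def wk1 : List Ltr :=
  [.taui, .xi, .p, .xi, .p9, .taui, .xi, .p2, .xi, .p8, .h, .X0, .X2, .X3, .X9, .Z1, .Z3, .Z4, .Z5, .z, .y2,
  .y10, .p10, .h, .xi, .y6, .h, .xi, .p8, .h, .p8, .hi, .p7, .y8, .p8, .xi, .y9, .xi, .p3, .y8, .h, .p7, .hi,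
  .p, .y6, .xi, .p7, .y9, .xi, .hi, .p3, .xii, .p9, .xii, .tau, .p2, .xii, .p10, .xii, .tau]

/-- `n`, inverts `y1` -/
def wn : List Ltr :=
  [.X4, .X5, .X7, .X8, .X9, .X10, .Z1, .Z8, .Z9, .z, .p2, .hi, .xi, .p8, .xii, .p2, .hi, .p9, .xi, .p3, .xi, .h,
  .p4, .xii, .p3, .y3, .y10, .xii, .p3, .hi, .p8, .xi, .h, .y3, .p4, .h, .p2, .hi, .y1, .y10, .p5, .y9, .p9, .h,
  .xii, .h, .xii, .p7, .y1, .p4, .h, .p10, .xii, .y10, .xi, .h, .p6, .y3, .y6, .hi, .p, .hi, .p8, .y9, .p5, .y4,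
  .xi, .h]

/-- a cube root of `y1` -/
def w9 : List Ltr :=
  [.X0, .X2, .X3, .X5, .X6, .X8, .X9, .X10, .Z3, .Z7, .Z8, .Z9, .Z10, .p2, .hi, .xi, .p8, .xii, .p2, .hi, .p9,
  .xi, .p3, .xi, .h, .p9, .y3, .p8, .xii, .p7, .y7, .p7, .xii, .p10, .y7, .h, .p5, .h, .y5, .p2, .y3, .p6, .xi,
  .p3, .h, .y10, .p4, .h, .p9, .hi, .y1, .p10, .xi, .y1, .p8, .y9, .xii, .y9, .p6, .y2, .xi, .p5, .y10, .h, .y5,
  .xi, .p2, .y3, .p9, .y3, .xi, .y4, .y7, .p7, .y8, .xii, .y3, .y1]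

/-- powers of an element of order 3 -/
def wp (w : List Ltr) (k : ZMod 3) : List Ltr := if k = 0 then [] else if k = 1 then w else winv w

/-- products of powers of `e0, …, e3` -/
def p4 (a b c d : ZMod 3) : List Ltr := wp we0 a ++ wp we1 b ++ wp we2 c ++ wp we3 d

/-- the words of `e0, …, e7` -/
def we : Fin 8 → List Ltr := ![we0, we1, we2, we3, cj wr we0, cj wr we1, cj wr we2, cj wr we3]

/-- the words of `w0, …, w5` -/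
def ww : Fin 6 → List Ltr := ![[.z], wr, ww2, ww3, ww4, ww5]

/-- the words of `k0, k1` -/
def wk : Fin 2 → List Ltr := ![wk0, wk1]

/-- the word of a normal form in `P` -/
def nfw (v : Fin 8 → ZMod 3) (c : ZMod 3) : List Ltr :=
  p4 (v 0) (v 1) (v 2) (v 3) ++ (if v 4 = 0 ∧ v 5 = 0 ∧ v 6 = 0 ∧ v 7 = 0 then [] else
    cj wr (p4 (v 4) (v 5) (v 6) (v 7))) ++ wp wy1 c

/-- powers of elements of order 2 or 4 with exponent `0, 1` -/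
def w2p (w : List Ltr) (k : ZMod 2) : List Ltr := if k = 0 then [] else w

/-- the word of a normal form in `W` -/
def wnfw (m : Fin 6 → ZMod 2) (c : ZMod 2) : List Ltr :=
  w2p (ww 0) (m 0) ++ w2p (ww 1) (m 1) ++ w2p (ww 2) (m 2) ++ w2p (ww 3) (m 3) ++ w2p (ww 4) (m 4) ++ w2p (ww 5) (m 5) ++
    w2p wt c

end Cfsg.Agent.H863.U33
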